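import Cfsg.Agent.R2.H8.Mon.Sing
import Cfsg.Agent.R2.H10.Mon.Omega

/-!
# Two arks with a common singular subgroup of order 16 (helper8)

* `ark_oct` : the arks containing `z, y` are the `T h o'`, `o'` an octad; `ark_T` the converse;
* `std_pair`, `std_triple` : disjoint octads and the standard trio;
* `T_inf` : `T h (ot i) ⊓ T h (ot j) = pre h U4`;
* `adj_std` : the pairs of arks with a common totally singular subgroup of order 16.
-/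

set_option autoImplicit false
set_option linter.unusedSectionVars false

open Cfsg

namespace Cfsg.Agent.R2.H8.Mon.Adj

open Cfsg.Agent.GolayTrio.Std
open Cfsg.Agent.H848.TrioU
open Cfsg.Agent.SporadicA
open Cfsg.Agent.SporadicA.Co0Mono (signCo0 signCo0_add permCo0 wordPerm perm_mul_sign perm_mul_sign_mul_inv)
open Cfsg.Agent.SporadicA.Co1Simple (allOne)
open Cfsg.Agent.CoOneType.SignFacts
open Cfsg.Agent.CoOneType.CoOneE (pr pr_surjective E mem_E sup_zero wt_eq_zero sup_add wt_add sup_inj sup_wordPerm sup_mem_octads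
  isConj_of_wt)
open Cfsg.Agent.MonsterU.Lam2 (L2 IsType cl cl_surjective bf)
open Cfsg.Agent.MonsterU.CoFrameL2
open Cfsg.Agent.MonsterU.AmalGen (pre mem_pre EE pre_W1 z_mem_pre)
open Cfsg.Agent.MonsterU.AmalInf (AA mem_AA)
open Cfsg.Agent.MonsterU.Ch
open Cfsg.Agent.H848.Oct (eps eps_mul_eps W16 W8 mem_W16 CO mem_CO)
open Cfsg.Agent.H848.TenB (T mem_T pre_W8_le mem_T_Q pi_T T_z)
open Cfsg.Agent.R2.H4.Mon.KeyGrp
open Cfsg.Agent.R2.H4.Mon.Frm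
open Cfsg.Agent.R2.H4.Mon.GeoInst
open Cfsg.Agent.R2.H4.Mon.GeoConj
open Cfsg.Agent.R2.H4.Mon.ArkStd
open Cfsg.Agent.R2.M7
open Cfsg.Agent.R2.M7.Geo (cj CC)
open Cfsg.Agent.R2.H8.Mon.Cw
open Cfsg.Agent.R2.H8.Mon.Refine
open Cfsg.Agent.R2.H8.Mon.Lat
open Cfsg.Agent.R2.H8.Mon.Sing
open Cfsg.Spor (Co1)
open scoped Pointwise

variable {G : Type*} [Group G] {Q : Subgroup G} {z : G} {eta : G → L2}
  {pi : Subgroup.centralizer ({z} : Set G) →* Co1} {y τ : G} {o : golayCode}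

/-! ### The arks containing the frame -/

/-- the action of the monomial group on the octads -/
theorem sp_conj_eps (d : golayCode) (σ : M24) (o : golayCode) :
    pr (signCo0 d * permCo0 σ) * eps o * (pr (signCo0 d * permCo0 σ))⁻¹ = eps (wordPerm σ o) := by
  have h1 : permCo0 σ * signCo0 o * (permCo0 σ)⁻¹ = signCo0 (wordPerm σ o) := perm_mul_sign_mul_inv σ o
  show pr _ * pr _ * (pr _)⁻¹ = pr _
  rw [← map_inv, ← map_mul, ← map_mul]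
  have h2 : signCo0 d * permCo0 σ * signCo0 o * (signCo0 d * permCo0 σ)⁻¹ =
      signCo0 d * (permCo0 σ * signCo0 o * (permCo0 σ)⁻¹) * (signCo0 d)⁻¹ := by group
  rw [h2, h1, ← signCo0_add, add_comm, signCo0_add, mul_inv_cancel_right]

theorem wt_wordPerm (σ : M24) (o : golayCode) : wt (wordPerm σ o) = wt o := by
  unfold wt
  rw [sup_wordPerm, Finset.card_smul_finset]

/-- conjugation by an element over the monomial group -/
theorem cj_T (h : Chart Q z eta pi) {k : G} (hkz : k ∈ Subgroup.centralizer ({z} : Set G)) {d : golayCode} {σ : M24}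
    (hk : pi ⟨k, hkz⟩ = pr (signCo0 d * permCo0 σ)) (o : golayCode) : cj k (T h o) = T h (wordPerm σ o) :=
  T_eq_cj h hkz (by rw [hk, sp_conj_eps])

/-- an element of `C(z) ∩ C(y)` over a permutation -/
theorem exists_perm (h : Chart Q z eta pi) (σ : M24) :
    ∃ k : G, ∃ hkz : k ∈ Subgroup.centralizer ({z} : Set G), pi ⟨k, hkz⟩ = pr (signCo0 0 * permCo0 σ) := by
  obtain ⟨c, hc⟩ := h.pi_surj (pr (signCo0 0 * permCo0 σ))
  exact ⟨c, c.2, hc⟩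

/-- **Every octad gives an ark.** -/
theorem ark_T (h : Chart Q z eta pi) (ho : wt o = 8) {o' : golayCode} (ho' : wt o' = 8) :
    T h o' ∈ (geo h o).Ark := by
  obtain ⟨c, -, hc⟩ := exists_cj h (s := eps o) (t := eps o') (isConj_of_wt o o' (Or.inl ⟨ho, ho'⟩))
  exact ⟨(c : G), hc.symm⟩

/-- **The arks containing `z` and `y`.** -/
theorem ark_oct [Finite G] (ho : wt o = 8) (F : Fr Q z eta pi y τ) (hE : TE F.ch τ) {O : Subgroup G}
    (hO : O ∈ (geo F.ch o).Ark) (hz : z ∈ O) (hy : y ∈ O) : ∃ o', wt o' = 8 ∧ O = T F.ch o' := by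
  obtain ⟨k, hk1, hk2, rfl⟩ := std2 (facts ho) F hE hO hz (TwoB.self z) hy F.twoB_y (by
    rw [F.QQ_z]; exact F.hyQ) F.y_ne
  have hkz : k ∈ Subgroup.centralizer ({z} : Set G) := by
    rw [Subgroup.mem_centralizer_singleton_iff]
    exact mul_inv_eq_iff_eq_mul.1 hk1
  have h1 : pi ⟨k, hkz⟩ • f0 = f0 := by
    have h2 := F.ch.eta_conj ⟨k, hkz⟩ y F.hyQ
    have h3 : eta (k * y * k⁻¹) = f0 := by rw [hk2, F.hy]
    rw [F.hy] at h2
    rw [← h2]; exact h3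
  obtain ⟨d, σ, hσ⟩ := Cfsg.Agent.MonsterU.CoFrameF.exists_of_mem_F ((mem_F_iff _).2 h1)
  exact ⟨wordPerm σ o, (wt_wordPerm σ o).trans ho, cj_T F.ch hkz hσ o⟩

/-! ### Trios -/

theorem third_octad {o₁ o₂ : golayCode} (h₁ : wt o₁ = 8) (h₂ : wt o₂ = 8) (hd : Disjoint (sup o₁) (sup o₂)) :
    ∃ o₃, wt o₃ = 8 ∧ Disjoint (sup o₁) (sup o₃) ∧ Disjoint (sup o₂) (sup o₃) := by
  have h3 : sup (o₁ + o₂ + allOne) = (sup o₁ ∪ sup o₂)ᶜ := by
    rw [sup_add_allOne, sup_add]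
    congr 1
    rw [symmDiff_def, Finset.sup_eq_union, Finset.sdiff_eq_self_of_disjoint hd, Finset.sdiff_eq_self_of_disjoint hd.symm]
  refine ⟨o₁ + o₂ + allOne, ?_, ?_, ?_⟩
  · have k1 := wt_add_allOne (o₁ + o₂)
    have k2 := wt_add o₁ o₂
    rw [Finset.disjoint_iff_inter_eq_empty.1 hd, Finset.card_empty] at k2
    omega
  · rw [h3, Finset.disjoint_left]
    intro p hp hp'
    rw [Finset.mem_compl, Finset.mem_union] at hp'
    exact hp' (Or.inl hp)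
  · rw [h3, Finset.disjoint_left]
    intro p hp hp'
    rw [Finset.mem_compl, Finset.mem_union] at hp'
    exact hp' (Or.inr hp)

/-- ordered trios are conjugate -/
theorem exists_ordered {o₁ o₂ o₃ : golayCode} (h₁ : wt o₁ = 8) (h₂ : wt o₂ = 8) (h₃ : wt o₃ = 8)
    (h12 : Disjoint (sup o₁) (sup o₂)) (h13 : Disjoint (sup o₁) (sup o₃)) (h23 : Disjoint (sup o₂) (sup o₃)) :
    ∃ σ : M24, wordPerm σ (ot 0) = o₁ ∧ wordPerm σ (ot 1) = o₂ ∧ wordPerm σ (ot 2) = o₃ := by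
  obtain ⟨g, hg, k1, k2, k3⟩ := Cfsg.Agent.GolayTrio.Trans.exists_ordered (OO_octad 0) (OO_octad 1) (OO_octad 2)
    (OO_disjoint (by decide)) (OO_disjoint (by decide)) (OO_disjoint (by decide))
    ((sup_mem_octads o₁).2 h₁) ((sup_mem_octads o₂).2 h₂) ((sup_mem_octads o₃).2 h₃) h12 h13 h23
  refine ⟨⟨g, hg⟩, ?_, ?_, ?_⟩
  · apply sup_inj; rw [sup_wordPerm, sup_ot]; exact k1
  · apply sup_inj; rw [sup_wordPerm, sup_ot]; exact k2
  · apply sup_inj; rw [sup_wordPerm, sup_ot]; exact k3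

/-- three arks of a trio are conjugate to the standard ones -/
theorem std_triple (h : Chart Q z eta pi) {o₁ o₂ o₃ : golayCode} (h₁ : wt o₁ = 8) (h₂ : wt o₂ = 8) (h₃ : wt o₃ = 8)
    (h12 : Disjoint (sup o₁) (sup o₂)) (h13 : Disjoint (sup o₁) (sup o₃)) (h23 : Disjoint (sup o₂) (sup o₃)) :
    ∃ k : G, cj k (T h (ot 0)) = T h o₁ ∧ cj k (T h (ot 1)) = T h o₂ ∧ cj k (T h (ot 2)) = T h o₃ := by
  obtain ⟨σ, rfl, rfl, rfl⟩ := exists_ordered h₁ h₂ h₃ h12 h13 h23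
  obtain ⟨k, hkz, hk⟩ := exists_perm h σ
  exact ⟨k, cj_T h hkz hk _, cj_T h hkz hk _, cj_T h hkz hk _⟩

theorem std_pair (h : Chart Q z eta pi) {o₁ o₂ : golayCode} (h₁ : wt o₁ = 8) (h₂ : wt o₂ = 8)
    (h12 : Disjoint (sup o₁) (sup o₂)) : ∃ k : G, cj k (T h (ot 0)) = T h o₁ ∧ cj k (T h (ot 1)) = T h o₂ := by
  obtain ⟨o₃, h₃, h13, h23⟩ := third_octad h₁ h₂ h12
  obtain ⟨k, k1, k2, -⟩ := std_triple h h₁ h₂ h₃ h12 h13 h23
  exact ⟨k, k1, k2⟩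

theorem eps_ne_eps {o₁ o₂ : golayCode} (h₁ : wt o₁ = 8) (h₂ : wt o₂ = 8) (hne : o₁ ≠ o₂) : eps o₁ ≠ eps o₂ := by
  intro h
  rcases eps_eq_iff.1 h with h3 | h3
  · exact hne h3.symm
  · have k := wt_add_allOne o₁
    rw [← h3] at k
    omega

/-- the intersection of two arks -/
theorem T_inf_le (h : Chart Q z eta pi) {o₁ o₂ : golayCode} (h₁ : wt o₁ = 8) (h₂ : wt o₂ = 8) (hne : o₁ ≠ o₂) {x : G} :
    (x ∈ T h o₁ ∧ x ∈ T h o₂) ↔ x ∈ Q ∧ eta x ∈ W8 o₁ ∧ eta x ∈ W8 o₂ := by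
  constructor
  · rintro ⟨k1, k2⟩
    have hxz : x ∈ Subgroup.centralizer ({z} : Set G) := Subgroup.mem_centralizer_singleton_iff.2 (T_z h k1)
    have hxQ : x ∈ Q := by
      rcases pi_T h (facts h₁) (c := ⟨x, hxz⟩) k1 with k3 | k3
      · exact (h.pi_eq_one _).1 k3
      · rcases pi_T h (facts h₂) (c := ⟨x, hxz⟩) k2 with k4 | k4
        · exact (h.pi_eq_one _).1 k4
        · exact absurd (k3.symm.trans k4) (eps_ne_eps h₁ h₂ hne)
    exact ⟨hxQ, (mem_T_Q h hxQ).1 k1, (mem_T_Q h hxQ).1 k2⟩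
  · rintro ⟨k1, k2, k3⟩
    exact ⟨(mem_T_Q h k1).2 k2, (mem_T_Q h k1).2 k3⟩

/-- **The intersection of two arks of the standard trio.** -/
theorem T_inf (h : Chart Q z eta pi) {i j : Fin 3} (hij : i ≠ j) : T h (ot i) ⊓ T h (ot j) = pre h U4 := by
  ext x
  rw [Subgroup.mem_inf, T_inf_le h (wt_ot i) (wt_ot j) (ot_ne hij), inf_eq_U4 hij]
  exact Iff.rfl

/-! ### Singular subgroups -/

/-- conjugates of singular subgroups -/
theorem SF.of_conj (F : Fr Q z eta pi y τ) {F₀ : Subgroup G} (hpt : ∀ x ∈ F₀, x ≠ 1 → TwoB z x)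
    (hcol : ∀ x ∈ F₀, x ≠ 1 → ∀ w ∈ F₀, w ∈ QQ Q z x) {k : G} (hz : k * z * k⁻¹ ∈ F₀) (hy : k * y * k⁻¹ ∈ F₀) :
    SF Q z y (cj k⁻¹ F₀) := by
  have key : ∀ {x}, x ∈ cj k⁻¹ F₀ ↔ k * x * k⁻¹ ∈ F₀ := by
    intro x
    rw [mem_cj, inv_inv]
  refine ⟨key.2 hz, key.2 hy, fun x hx hx1 => ?_, fun x hx hx1 w hw' => ?_⟩
  · rw [← twoB_conj_iff k]
    exact hpt _ (key.1 hx) fun h => hx1 (_root_.conj_eq_one_iff.1 h)
  · have hP : TwoB z x := by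
      rw [← twoB_conj_iff k]
      exact hpt _ (key.1 hx) fun h => hx1 (_root_.conj_eq_one_iff.1 h)
    rw [← mem_QQ_conj F.ch.large hP k]
    exact hcol _ (key.1 hx) (fun h => hx1 (_root_.conj_eq_one_iff.1 h)) _ (key.1 hw')

/-- the elements over `W1` -/
theorem mem_of_W1 (F : Fr Q z eta pi y τ) {x : G} (hx : x ∈ Q) (h : eta x ∈ W1) :
    x = 1 ∨ x = z ∨ x = y ∨ x = y * z := by
  rcases (mem_W1 _).1 h with h1 | h1
  · rcases (F.ch.eta_zero x hx).1 h1 with h2 | h2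
    · exact Or.inl h2
    · exact Or.inr (Or.inl h2)
  · rw [← F.hy] at h1
    rcases (F.ch.eta_eq hx F.hyQ).1 h1 with h2 | h2
    · exact Or.inr (Or.inr (Or.inl h2))
    · exact Or.inr (Or.inr (Or.inr h2))

/-- two independent elements in a singular subgroup of order at least 16 -/
theorem SF.exists_indep [Finite G] (F : Fr Q z eta pi y τ) {F₀ : Subgroup G} (S : SF Q z y F₀)
    (hcard : 8 < Nat.card F₀) :
    ∃ a ∈ F₀, ∃ b ∈ F₀, eta a ∉ W1 ∧ eta b ∉ W1 ∧ eta (a * b) ∉ W1 := by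
  classical
  have hex : ∀ s : Finset G, s.card ≤ 8 → ∃ a ∈ F₀, a ∉ s := by
    intro s hs
    by_contra hn
    push Not at hn
    have h1 : (F₀ : Set G) ⊆ (s : Set G) := fun x hx => hn x hx
    have h2 := Set.ncard_le_ncard h1 s.finite_toSet
    rw [Set.ncard_coe_finset] at h2
    have h3 : (F₀ : Set G).ncard = Nat.card F₀ := rfl
    omega
  have hc4 := Finset.card_le_four (a := (1 : G)) (b := z) (c := y) (d := y * z)
  obtain ⟨a, ha, has⟩ := hex {1, z, y, y * z} (by omega)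
  have ha1 : eta a ∉ W1 := by
    intro h
    apply has
    have := mem_of_W1 F (S.mem_Q F ha) h
    simp only [Finset.mem_insert, Finset.mem_singleton]
    exact this
  obtain ⟨b, hb, hbs⟩ := hex ({1, z, y, y * z} ∪ {a⁻¹ * 1, a⁻¹ * z, a⁻¹ * y, a⁻¹ * (y * z)}) (by
    have k1 := Finset.card_union_le ({1, z, y, y * z} : Finset G) {a⁻¹ * 1, a⁻¹ * z, a⁻¹ * y, a⁻¹ * (y * z)}
    have k2 := Finset.card_le_four (a := a⁻¹ * 1) (b := a⁻¹ * z) (c := a⁻¹ * y) (d := a⁻¹ * (y * z))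
    omega)
  rw [Finset.mem_union, not_or] at hbs
  refine ⟨a, ha, b, hb, ha1, fun h => ?_, fun h => ?_⟩
  · apply hbs.1
    have := mem_of_W1 F (S.mem_Q F hb) h
    simp only [Finset.mem_insert, Finset.mem_singleton]
    exact this
  · apply hbs.2
    have := mem_of_W1 F (Q.mul_mem (S.mem_Q F ha) (S.mem_Q F hb)) h
    simp only [Finset.mem_insert, Finset.mem_singleton]
    rcases this with h1 | h1 | h1 | h1
    · left; rw [← h1]; group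
    · right; left; rw [← h1]; group
    · right; right; left; rw [← h1]; group
    · right; right; right; rw [← h1]; group

/-- totally singular subgroups of an ark are singular -/
theorem col_of_ts [Finite G] (ho : wt o = 8) (F : Fr Q z eta pi y τ) (hE : TE F.ch τ) {O X : Subgroup G}
    (hO : O ∈ (geo F.ch o).Ark) (hX : X ≤ O) (hpt : ∀ x ∈ X, x ≠ 1 → TwoB z x) :
    ∀ x ∈ X, x ≠ 1 → ∀ w ∈ X, w ∈ QQ Q z x := by
  intro x hx hx1 w hw'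
  have h1 := (Cfsg.Agent.R2.H10.Mon.Omega.bet_iff (facts ho) F hE O hO x (hX hx) (hpt x hx hx1) w (hX hw')).2
  apply h1
  have hk : ∀ v ∈ X, (geo F.ch o).kap v = 0 := by
    intro v hv
    unfold Geo.kap
    rw [if_pos]
    by_cases h : v = 1
    · exact Or.inl h
    · exact Or.inr (hpt v hv h)
  unfold Geo.bet
  rw [hk _ (X.mul_mem hw' hx), hk _ hw', hk _ hx]
  decide

/-- a singular subgroup of order at least 4 is moved to one containing `z, y` -/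
theorem exists_conj_SF [Finite G] (F : Fr Q z eta pi y τ) {F₀ : Subgroup G} (hpt : ∀ x ∈ F₀, x ≠ 1 → TwoB z x)
    (hcol : ∀ x ∈ F₀, x ≠ 1 → ∀ w ∈ F₀, w ∈ QQ Q z x) {c x : G} (hc : c ∈ F₀) (hc1 : c ≠ 1) (hx : x ∈ F₀)
    (hx1 : x ≠ 1) (hxc : x ≠ c) : ∃ k : G, SF Q z y (cj k⁻¹ F₀) := by
  obtain ⟨k, hk1, hk2⟩ := pair_conj F (hpt c hc hc1) (hpt x hx hx1) (hcol c hc hc1 x hx) hxc
  exact ⟨k, SF.of_conj F hpt hcol (by rw [hk1]; exact hc) (by rw [hk2]; exact hx)⟩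

theorem exists_two_elements [Finite G] {F₀ : Subgroup G} (hcard : 2 < Nat.card F₀) :
    ∃ c ∈ F₀, ∃ x ∈ F₀, c ≠ 1 ∧ x ≠ 1 ∧ x ≠ c := by
  classical
  have hex : ∀ s : Finset G, s.card ≤ 2 → ∃ a ∈ F₀, a ∉ s := by
    intro s hs
    by_contra hn
    push Not at hn
    have h1 : (F₀ : Set G) ⊆ (s : Set G) := fun x hx => hn x hx
    have h2 := Set.ncard_le_ncard h1 s.finite_toSet
    rw [Set.ncard_coe_finset] at h2
    have h3 : (F₀ : Set G).ncard = Nat.card F₀ := rfl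
    omega
  obtain ⟨c, hc, hcs⟩ := hex {1} (by simp)
  obtain ⟨x, hx, hxs⟩ := hex {1, c} Finset.card_le_two
  simp only [Finset.mem_insert, Finset.mem_singleton, not_or] at hcs hxs
  exact ⟨c, hc, x, hx, hcs, hxs.1, hxs.2⟩

/-- **Two arks with a common singular subgroup of order greater than 8.** -/
theorem pair_std [Finite G] (ho : wt o = 8) (F : Fr Q z eta pi y τ) (hE : TE F.ch τ) {O₁ O₂ X : Subgroup G}
    (hO₁ : O₁ ∈ (geo F.ch o).Ark) (hO₂ : O₂ ∈ (geo F.ch o).Ark) (hne : O₁ ≠ O₂) (h₁ : X ≤ O₁) (h₂ : X ≤ O₂)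
    (hcard : 8 < Nat.card X) (hpt : ∀ x ∈ X, x ≠ 1 → TwoB z x) :
    ∃ k : G, cj k (T F.ch (ot 0)) = O₁ ∧ cj k (T F.ch (ot 1)) = O₂ := by
  have hcol := col_of_ts ho F hE hO₁ h₁ hpt
  obtain ⟨c, hc, x, hx, hc1, hx1, hxc⟩ := exists_two_elements (F₀ := X) (by omega)
  obtain ⟨k, S⟩ := exists_conj_SF F hpt hcol hc hc1 hx hx1 hxc
  obtain ⟨a, ha, b, hb, ha1, hb1, hab⟩ := SF.exists_indep F S (by rw [card_cj]; exact hcard)
  have hle : ∀ {O : Subgroup G}, X ≤ O → cj k⁻¹ X ≤ cj k⁻¹ O := fun h => Subgroup.map_mono h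
  have hark : ∀ {O : Subgroup G}, O ∈ (geo F.ch o).Ark → X ≤ O → ∃ o', wt o' = 8 ∧ cj k⁻¹ O = T F.ch o' :=
    fun hO h => ark_oct ho F hE (ark_conj_iff.2 hO) (hle h S.hz) (hle h S.hy)
  obtain ⟨o₁, ho₁, e₁⟩ := hark hO₁ h₁
  obtain ⟨o₂, ho₂, e₂⟩ := hark hO₂ h₂
  have hk : ∀ O : Subgroup G, cj k (cj k⁻¹ O) = O := by
    intro O; rw [cj_cj, mul_inv_cancel, cj_one]
  have hno : o₁ ≠ o₂ := by
    intro h
    apply hne
    rw [← hk O₁, ← hk O₂, e₁, e₂, h]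
  have hd := S.disjoint F ha hb ha1 hb1 hab ho₁ ho₂ hno (e₁ ▸ hle h₁) (e₂ ▸ hle h₂)
  obtain ⟨m, hm₁, hm₂⟩ := std_pair F.ch ho₁ ho₂ hd
  exact ⟨k * m, by rw [← cj_cj, hm₁, ← e₁, hk], by rw [← cj_cj, hm₂, ← e₂, hk]⟩

/-- **Adjacent arks.** -/
theorem adj_std [Finite G] (ho : wt o = 8) (F : Fr Q z eta pi y τ) (hE : TE F.ch τ) {O₁ O₂ X : Subgroup G}
    (hA : (geo F.ch o).Adj O₁ O₂ X) : ∃ k : G, cj k (T F.ch (ot 0)) = O₁ ∧ cj k (T F.ch (ot 1)) = O₂ := by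
  obtain ⟨hO₁, hO₂, hne, h₁, h₂, hc, hpt⟩ := hA
  exact pair_std ho F hE hO₁ hO₂ hne h₁ h₂ (by omega) hpt

/-- the intersection of two arks with a common singular subgroup does not depend on the second one -/
theorem inf_eq [Finite G] (ho : wt o = 8) (F : Fr Q z eta pi y τ) (hE : TE F.ch τ) {O₁ O₂ O₃ X : Subgroup G}
    (hO₁ : O₁ ∈ (geo F.ch o).Ark) (hO₂ : O₂ ∈ (geo F.ch o).Ark) (hO₃ : O₃ ∈ (geo F.ch o).Ark)
    (hne : O₁ ≠ O₂) (hne3 : O₁ ≠ O₃) (h₁ : X ≤ O₁) (h₂ : X ≤ O₂) (h₃ : X ≤ O₃)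
    (hcard : 8 < Nat.card X) (hpt : ∀ x ∈ X, x ≠ 1 → TwoB z x) : O₁ ⊓ O₂ = O₁ ⊓ O₃ := by
  by_cases h23 : O₂ = O₃
  · rw [h23]
  have hcol := col_of_ts ho F hE hO₁ h₁ hpt
  obtain ⟨c, hc, x, hx, hc1, hx1, hxc⟩ := exists_two_elements (F₀ := X) (by omega)
  obtain ⟨k, S⟩ := exists_conj_SF F hpt hcol hc hc1 hx hx1 hxc
  obtain ⟨a, ha, b, hb, ha1, hb1, hab⟩ := SF.exists_indep F S (by rw [card_cj]; exact hcard)
  have hle : ∀ {O : Subgroup G}, X ≤ O → cj k⁻¹ X ≤ cj k⁻¹ O := fun h => Subgroup.map_mono h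
  have hark : ∀ {O : Subgroup G}, O ∈ (geo F.ch o).Ark → X ≤ O → ∃ o', wt o' = 8 ∧ cj k⁻¹ O = T F.ch o' :=
    fun hO h => ark_oct ho F hE (ark_conj_iff.2 hO) (hle h S.hz) (hle h S.hy)
  obtain ⟨o₁, ho₁, e₁⟩ := hark hO₁ h₁
  obtain ⟨o₂, ho₂, e₂⟩ := hark hO₂ h₂
  obtain ⟨o₃, ho₃, e₃⟩ := hark hO₃ h₃
  have hk : ∀ O : Subgroup G, cj k (cj k⁻¹ O) = O := by
    intro O; rw [cj_cj, mul_inv_cancel, cj_one]
  have hno : ∀ {O O' : Subgroup G} {o o' : golayCode}, O ≠ O' → cj k⁻¹ O = T F.ch o → cj k⁻¹ O' = T F.ch o' →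
      o ≠ o' := by
    intro O O' o o' hne e e' h
    apply hne
    rw [← hk O, ← hk O', e, e', h]
  have d12 := S.disjoint F ha hb ha1 hb1 hab ho₁ ho₂ (hno hne e₁ e₂) (e₁ ▸ hle h₁) (e₂ ▸ hle h₂)
  have d13 := S.disjoint F ha hb ha1 hb1 hab ho₁ ho₃ (hno hne3 e₁ e₃) (e₁ ▸ hle h₁) (e₃ ▸ hle h₃)
  have d23 := S.disjoint F ha hb ha1 hb1 hab ho₂ ho₃ (hno h23 e₂ e₃) (e₂ ▸ hle h₂) (e₃ ▸ hle h₃)
  obtain ⟨m, hm₁, hm₂, hm₃⟩ := std_triple F.ch ho₁ ho₂ ho₃ d12 d13 d23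
  have key : cj k⁻¹ (O₁ ⊓ O₂) = cj k⁻¹ (O₁ ⊓ O₃) := by
    rw [cj_inf, cj_inf, e₁, e₂, e₃, ← hm₁, ← hm₂, ← hm₃, ← cj_inf, ← cj_inf, T_inf F.ch (by decide),
      T_inf F.ch (by decide)]
  rw [← hk (O₁ ⊓ O₂), key, hk]

end Cfsg.Agent.R2.H8.Mon.Adj
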