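import Cfsg.Agent.J4Type.ClosingCocode
import Cfsg.Agent.CoOneType.CentOctad
import Cfsg.Agent.MonsterU.CoFrameSep
import Cfsg.Agent.R2.H4.Mon.Golay

/-!
# Cocode elements and sextets (helper8)

`ev X c` : the parity of `sup c ∩ X`.  `Sx φ T` : the functional `φ` is the sextet `T`.
`Po o φ` : the functional vanishes on the words disjoint from `o`.
-/

set_option autoImplicit false
set_option linter.unusedSectionVars false

namespace Cfsg.Agent.R2.H8.Mon.Cw

open Cfsg
open Cfsg.Agent.SporadicA
open Cfsg.Agent.SporadicA.Xi (IsSextet fib mem_fib tw tw_add_mem)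
open Cfsg.Agent.SporadicA.Co1Simple (allOne)
open Cfsg.Agent.CoOneType.SignFacts
open Cfsg.Agent.CoOneType.CoOneE (sup_zero wt_eq_zero sup_add wt_add sup_inj)
open Cfsg.Agent.SporadicStructure.LeechBase (zmod2_cases mem_support₂ mem_support₂_iff_one)

/-- the parity of the intersection of a word with a set of points -/
def ev (X : Finset GolayPt) (c : golayCode) : ZMod 2 := ∑ i ∈ X, (c : GolayPt → ZMod 2) i

theorem ev_add (X : Finset GolayPt) (c d : golayCode) : ev X (c + d) = ev X c + ev X d := by
  unfold ev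
  rw [← Finset.sum_add_distrib]
  rfl

theorem ev_eq_card (X : Finset GolayPt) (c : golayCode) : ev X c = ((sup c ∩ X).card : ZMod 2) := by
  unfold ev
  rw [Finset.inter_comm, ← Finset.filter_mem_eq_inter, Finset.card_filter, Nat.cast_sum]
  refine Finset.sum_congr rfl fun i _ => ?_
  by_cases h : i ∈ sup c
  · rw [if_pos h, (mem_sup c i).1 h]; rfl
  · rw [if_neg h, (notMem_sup c i).1 h]; rfl

theorem ev_eq_zero_iff (X : Finset GolayPt) (c : golayCode) : ev X c = 0 ↔ Even (sup c ∩ X).card := by
  rw [ev_eq_card, ZMod.natCast_eq_zero_iff, even_iff_two_dvd]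

theorem ev_symmDiff (X Y : Finset GolayPt) (c : golayCode) : ev (symmDiff X Y) c = ev X c + ev Y c := by
  have h1 : ev (symmDiff X Y) c = ev (X \ Y) c + ev (Y \ X) c := by
    unfold ev
    rw [symmDiff_def, Finset.sup_eq_union, Finset.sum_union disjoint_sdiff_sdiff]
  have h2 : ev X c = ev (X \ Y) c + ev (X ∩ Y) c := by
    unfold ev
    rw [← Finset.sum_union (Finset.disjoint_sdiff_inter X Y), Finset.sdiff_union_inter]
  have h3 : ev Y c = ev (Y \ X) c + ev (X ∩ Y) c := by
    unfold ev
    rw [Finset.inter_comm, ← Finset.sum_union (Finset.disjoint_sdiff_inter Y X), Finset.sdiff_union_inter]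
  rw [h1, h2, h3]
  generalize ev (X \ Y) c = a
  generalize ev (Y \ X) c = b
  generalize ev (X ∩ Y) c = d
  revert a b d; decide

theorem ev_union {X Y : Finset GolayPt} (h : Disjoint X Y) (c : golayCode) : ev (X ∪ Y) c = ev X c + ev Y c := by
  unfold ev
  exact Finset.sum_union h

/-- the indicator word -/
theorem exists_word {X : Finset GolayPt} (h : X ∈ supports (golayCode : Set (GolayPt → ZMod 2))) :
    ∃ c : golayCode, sup c = X := by
  obtain ⟨w, hw, rfl⟩ := h
  exact ⟨⟨w, hw⟩, rfl⟩

theorem sup_inter_even (c d : golayCode) : Even (sup c ∩ sup d).card := by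
  have h1 := wt_cases c
  have h2 := wt_cases d
  have h3 := wt_cases (c + d)
  have h4 := wt_add c d
  rw [Nat.even_iff]
  omega

theorem ev_code {X : Finset GolayPt} (h : X ∈ supports (golayCode : Set (GolayPt → ZMod 2))) (c : golayCode) :
    ev X c = 0 := by
  obtain ⟨d, rfl⟩ := exists_word h
  rw [ev_eq_zero_iff]
  exact sup_inter_even c d

/-- the sets evaluating trivially are the code words -/
theorem mem_supports_of_ev {X : Finset GolayPt} (h : ∀ c, ev X c = 0) :
    X ∈ supports (golayCode : Set (GolayPt → ZMod 2)) := by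
  classical
  refine ⟨fun i => if i ∈ X then 1 else 0, ?_, ?_⟩
  · apply Cfsg.Agent.MonsterU.CoFrameSep.mem_code_of_orth
    intro c
    have h1 := h c
    unfold ev at h1
    simpa [Finset.sum_ite_mem] using h1
  · ext i
    rw [mem_support₂]
    by_cases hi : i ∈ X <;> simp [hi]

theorem symmDiff_mem {X Y : Finset GolayPt} (h : ∀ c, ev X c = ev Y c) :
    symmDiff X Y ∈ supports (golayCode : Set (GolayPt → ZMod 2)) := by
  apply mem_supports_of_ev
  intro c
  rw [ev_symmDiff, h c]
  generalize ev Y c = a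
  revert a; decide

theorem card_cases {X : Finset GolayPt} (h : X ∈ supports (golayCode : Set (GolayPt → ZMod 2))) :
    X.card = 0 ∨ X.card = 8 ∨ X.card = 12 ∨ X.card = 16 ∨ X.card = 24 := by
  obtain ⟨d, rfl⟩ := exists_word h
  exact wt_cases d

theorem card_symmDiff (X Y : Finset GolayPt) : (symmDiff X Y).card + 2 * (X ∩ Y).card = X.card + Y.card := by
  have h6 := Finset.card_sdiff_add_card_inter X Y
  have h7 := Finset.card_sdiff_add_card_inter Y X
  rw [Finset.inter_comm Y X] at h7
  have h8 : (symmDiff X Y).card = (X \ Y).card + (Y \ X).card := by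
    rw [symmDiff_def, Finset.sup_eq_union, Finset.card_union_of_disjoint disjoint_sdiff_sdiff]
  omega

/-- two small sets with the same parities, meeting, are equal -/
theorem eq_of_ev {X Y : Finset GolayPt} (hX : X.card ≤ 4) (hY : Y.card ≤ 4) (h : ∀ c, ev X c = ev Y c)
    (hne : (X ∩ Y).Nonempty) : X = Y := by
  have h1 := card_cases (symmDiff_mem h)
  have h2 := card_symmDiff X Y
  have h3 := Finset.card_pos.2 hne
  have h4 : (symmDiff X Y).card = 0 := by omega
  exact symmDiff_eq_bot.1 (Finset.card_eq_zero.1 h4)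

theorem eq_of_ev' {X Y : Finset GolayPt} (hXY : X.card + Y.card < 8)
    (h : ∀ c, ev X c = ev Y c) : X = Y := by
  have h1 := card_cases (symmDiff_mem h)
  have h2 := card_symmDiff X Y
  have h4 : (symmDiff X Y).card = 0 := by omega
  exact symmDiff_eq_bot.1 (Finset.card_eq_zero.1 h4)

/-! ### Small representatives -/

/-- reduction modulo the code -/
theorem exists_small (X : Finset GolayPt) (hX : Even X.card) :
    ∃ Y : Finset GolayPt, (Y.card = 0 ∨ Y.card = 2 ∨ Y.card = 4) ∧ ∀ c, ev X c = ev Y c := by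
  let e : GolayPt → Multiplicative (golayCode → ZMod 2) := fun i =>
    Multiplicative.ofAdd fun c => (c : GolayPt → ZMod 2) i
  have hprod : ∀ S : Finset GolayPt, ∏ i ∈ S, e i = Multiplicative.ofAdd fun c => ev S c := by
    intro S
    rw [← ofAdd_sum]
    congr 1
    funext c
    rw [Finset.sum_apply]
    rfl
  have he : Cfsg.Agent.J4Type.DuadStab.IsCocode e := by
    refine ⟨fun i => ?_, fun S _ => ?_⟩
    · show Multiplicative.ofAdd _ = _
      rw [← ofAdd_zero]
      congr 1
      funext c
      exact CharTwo.add_self_eq_zero _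
    · rw [hprod, ← ofAdd_zero]
      constructor
      · intro h
        have h1 := Multiplicative.ofAdd.injective h
        exact mem_supports_of_ev fun c => congrFun h1 c
      · intro h
        congr 1
        funext c
        exact ev_code h c
  obtain ⟨T, hT, h⟩ := Cfsg.Agent.J4Type.ClosingCocode.exists_small he X hX
  refine ⟨T, hT, fun c => ?_⟩
  rw [hprod, hprod] at h
  exact congrFun (Multiplicative.ofAdd.injective h) c

/-! ### Sextets -/

/-- the functional `φ` is the sextet `T` -/
structure Sx (φ : golayCode → ZMod 2) (T : GolayPt → Fin 6) : Prop where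
  sext : IsSextet T
  ev : ∀ k c, φ c = ev (fib T k) c

theorem exists_sx {X : Finset GolayPt} (hX : X.card = 4) : ∃ T, Sx (ev X) T ∧ fib T 0 = X := by
  obtain ⟨T, hT, hT0⟩ := XiSextet.exists_isSextet Cfsg.Agent.S0363.result X hX
  refine ⟨T, ⟨hT, fun k c => ?_⟩, hT0⟩
  by_cases hk : k = 0
  · rw [hk, hT0]
  · have h1 := ev_code (hT.code 0 k (Ne.symm hk)) c
    have hd : Disjoint (fib T 0) (fib T k) := by
      rw [Finset.disjoint_left]
      intro x hx hx'
      rw [mem_fib] at hx hx'
      exact hk (hx'.symm.trans hx)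
    rw [ev_union hd, hT0] at h1
    generalize ev X c = a at h1
    generalize Cw.ev (fib T k) c = b at h1
    revert a b; decide

variable {φ ψ : golayCode → ZMod 2} {T T' : GolayPt → Fin 6}

theorem fib_disjoint {T : GolayPt → Fin 6} {k l : Fin 6} (h : k ≠ l) : Disjoint (fib T k) (fib T l) := by
  rw [Finset.disjoint_left]
  intro x hx hx'
  rw [mem_fib] at hx hx'
  exact h (hx.symm.trans hx')

theorem Sx.card (h : Sx φ T) (k : Fin 6) : (fib T k).card = 4 := h.sext.card k

theorem Sx.nonempty (h : Sx φ T) (k : Fin 6) : (fib T k).Nonempty := by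
  rw [← Finset.card_pos, h.card]; norm_num

/-- a tetrad of the sextet -/
theorem Sx.eq_fib (h : Sx φ T) {Y : Finset GolayPt} (hY : Y.card ≤ 4) (hφ : ∀ c, φ c = Cw.ev Y c) {p : GolayPt}
    (hp : p ∈ Y) : Y = fib T (T p) := by
  refine eq_of_ev hY (h.card _).le (fun c => by rw [← hφ, h.ev (T p)]) ⟨p, ?_⟩
  rw [Finset.mem_inter, mem_fib]
  exact ⟨hp, rfl⟩

/-- the word of two tetrads -/
def tww (h : Sx φ T) (i j : Fin 6) : golayCode := ⟨tw T i + tw T j, tw_add_mem h.sext i j⟩

theorem tww_apply (h : Sx φ T) (i j : Fin 6) (p : GolayPt) :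
    (tww h i j : GolayPt → ZMod 2) p = (if T p = i then 1 else 0) + (if T p = j then 1 else 0) := rfl

theorem sup_tww (h : Sx φ T) {i j : Fin 6} (hij : i ≠ j) : sup (tww h i j) = fib T i ∪ fib T j := by
  ext p
  rw [mem_sup, tww_apply, Finset.mem_union, mem_fib, mem_fib]
  by_cases h1 : T p = i
  · have h2 : ¬ T p = j := fun h3 => hij (h1.symm.trans h3)
    simp [h1, hij]
  · by_cases h2 : T p = j
    · simp [h2, Ne.symm hij]
    · simp [h1, h2]

theorem wt_tww (h : Sx φ T) {i j : Fin 6} (hij : i ≠ j) : wt (tww h i j) = 8 := by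
  unfold wt
  rw [sup_tww h hij, Finset.card_union_of_disjoint (fib_disjoint hij), h.card, h.card]

theorem tww_const (h : Sx φ T) (i j : Fin 6) (p q : GolayPt) (hpq : T p = T q) :
    (tww h i j : GolayPt → ZMod 2) p = (tww h i j : GolayPt → ZMod 2) q := by
  rw [tww_apply, tww_apply, hpq]

/-- the relation between two sextets -/
def Rel (φ ψ : golayCode → ZMod 2) : Prop := ∀ T (h : Sx φ T), ∀ i j, ψ (tww h i j) = 0

/-- the parities of the intersections of a tetrad of `ψ` with the tetrads of `φ` -/
theorem exists_two (h : Sx φ T) {Y : Finset GolayPt} (hY : Y.card = 4)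
    (hR : ∀ i j, i ≠ j → ev Y (tww h i j) = 0) (hne : ∃ c, φ c ≠ ev Y c) {p : GolayPt} (hp : p ∈ Y) :
    ∃ j, j ≠ T p ∧ (Y ∩ fib T (T p)).card = 2 ∧ (Y ∩ fib T j).card = 2 ∧ Y ⊆ fib T (T p) ∪ fib T j := by
  classical
  have hsum : ∑ k : Fin 6, (Y ∩ fib T k).card = 4 := by
    rw [← hY, ← Finset.card_biUnion]
    · congr 1
      ext q
      simp only [Finset.mem_biUnion, Finset.mem_univ, true_and, Finset.mem_inter, mem_fib]
      constructor
      · rintro ⟨k, hq, -⟩; exact hq
      · intro hq; exact ⟨T q, hq, rfl⟩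
    · intro k _ l _ hkl
      exact Disjoint.mono Finset.inter_subset_right Finset.inter_subset_right (fib_disjoint hkl)
  have hpar : ∀ i j, i ≠ j → ((Y ∩ fib T i).card + (Y ∩ fib T j).card) % 2 = 0 := by
    intro i j hij
    have h1 := (ev_eq_zero_iff _ _).1 (hR i j hij)
    rw [sup_tww h hij, Finset.inter_comm, Finset.inter_union_distrib_left,
      Finset.card_union_of_disjoint (Disjoint.mono Finset.inter_subset_right Finset.inter_subset_right
        (fib_disjoint hij)), Nat.even_iff] at h1
    exact h1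
  have hlt : ∀ k, (Y ∩ fib T k).card < 4 := by
    intro k
    by_contra hge
    push Not at hge
    have h1 : Y ∩ fib T k = Y := Finset.eq_of_subset_of_card_le Finset.inter_subset_left (by omega)
    have h2 : Y ∩ fib T k = fib T k :=
      Finset.eq_of_subset_of_card_le Finset.inter_subset_right (by rw [h.card]; exact hge)
    obtain ⟨c, hc⟩ := hne
    apply hc
    rw [h.ev k c, ← h2, h1]
  have hpos : 0 < (Y ∩ fib T (T p)).card := Finset.card_pos.2 ⟨p, Finset.mem_inter.2 ⟨hp, mem_fib.2 rfl⟩⟩
  set n : Fin 6 → ℕ := fun k => (Y ∩ fib T k).card with hn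
  have hsum' : ∑ k, n k = 4 := hsum
  -- all the intersections are even
  have heven : ∀ k, n k % 2 = 0 := by
    intro k
    by_contra hk
    have h1 : ∀ l, 1 ≤ n l := by
      intro l
      by_cases hkl : k = l
      · subst hkl; omega
      · have := hpar k l hkl
        show 1 ≤ (Y ∩ fib T l).card
        have h2 : n k = (Y ∩ fib T k).card := rfl
        omega
    have h2 : ∑ l : Fin 6, 1 ≤ ∑ l, n l := Finset.sum_le_sum fun l _ => h1 l
    rw [hsum'] at h2
    simp at h2
  have h2 : n (T p) = 2 := by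
    have h3 := heven (T p)
    have h4 := hlt (T p)
    have h5 : n (T p) = (Y ∩ fib T (T p)).card := rfl
    omega
  obtain ⟨j, hj, hj0⟩ : ∃ j, j ≠ T p ∧ n j ≠ 0 := by
    by_contra hno
    push Not at hno
    have h3 : ∑ k, n k = n (T p) := Finset.sum_eq_single _ (fun k _ hk => hno k hk) (by simp)
    omega
  have hj2 : n j = 2 := by
    have h3 := heven j
    have h4 := hlt j
    have h5 : n j = (Y ∩ fib T j).card := rfl
    omega
  refine ⟨j, hj, h2, hj2, ?_⟩
  have h6 : Y ∩ fib T (T p) ∪ Y ∩ fib T j = Y := by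
    apply Finset.eq_of_subset_of_card_le (Finset.union_subset Finset.inter_subset_left Finset.inter_subset_left)
    rw [Finset.card_union_of_disjoint (Disjoint.mono Finset.inter_subset_right Finset.inter_subset_right
      (fib_disjoint (Ne.symm hj)))]
    have h7 : n (T p) = (Y ∩ fib T (T p)).card := rfl
    have h8 : n j = (Y ∩ fib T j).card := rfl
    omega
  intro q hq
  rw [← h6, Finset.mem_union, Finset.mem_inter, Finset.mem_inter] at hq
  rw [Finset.mem_union]
  tauto

end Cfsg.Agent.R2.H8.Mon.Cw
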