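import Cfsg.Agent.R2.H8.Mon.Match
import Cfsg.Agent.R2.H8.Mon.Adj

/-!
# Every singular subgroup lies in an ark (helper8)

`exists_ark` : a singular subgroup containing the frame `z, y` lies in an ark.
-/

set_option autoImplicit false
set_option linter.unusedSectionVars false

open Cfsg

namespace Cfsg.Agent.R2.H8.Mon.Ex

open Cfsg.Agent.SporadicA.Xi (IsSextet fib mem_fib tw tw_add_mem)
open Cfsg.Agent.H848.TrioU
open Cfsg.Agent.CoOneType.SignFacts
open Cfsg.Agent.MonsterU.Lam2 (L2)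
open Cfsg.Agent.MonsterU.CoFrameL2
open Cfsg.Agent.MonsterU.Ch
open Cfsg.Agent.H848.TenB (T mem_T)
open Cfsg.Agent.R2.H4.Mon.KeyGrp
open Cfsg.Agent.R2.H4.Mon.Frm
open Cfsg.Agent.R2.H4.Mon.GeoInst
open Cfsg.Agent.R2.M7
open Cfsg.Agent.R2.M7.Geo (cj CC)
open Cfsg.Agent.R2.H8.Mon.Cw
open Cfsg.Agent.R2.H8.Mon.Refine
open Cfsg.Agent.R2.H8.Mon.Lat
open Cfsg.Agent.R2.H8.Mon.Sing
open Cfsg.Agent.R2.H8.Mon.Match
open Cfsg.Agent.R2.H8.Mon.Adj
open Cfsg.Spor (Co1)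

variable {G : Type*} [Group G] {Q : Subgroup G} {z : G} {eta : G → L2}
  {pi : Subgroup.centralizer ({z} : Set G) →* Co1} {y τ : G} {o : golayCode} {F₀ : Subgroup G}

/-- the functional of an element over `W1` -/
theorem pairL_W1 (F : Fr Q z eta pi y τ) (S : SF Q z y F₀) {b : G} (hb : b ∈ F₀) (h : eta b ∈ W1) (c : golayCode) :
    pairL (eta b) c = 0 :=
  (mem_W1_iff_pairL (S.mem_W12 F hb)).1 h c

theorem good (F : Fr Q z eta pi y τ) [Finite G] (S : SF Q z y F₀) {a c : G} (ha : a ∈ F₀) (ha1 : eta a ∉ W1)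
    (hc : c ∈ F₀) (hc1 : eta c ∉ W1) (hac : eta (a * c) ∉ W1) : Good (pairL (eta a)) (pairL (eta c)) :=
  ⟨S.exists_sx F hc hc1, S.rel F ha ha1 hc, S.ne_pairL F ha hc hac⟩

/-- **The octad.** -/
theorem exists_octad_le [Finite G] (F : Fr Q z eta pi y τ) (S : SF Q z y F₀) :
    ∃ o' : golayCode, wt o' = 8 ∧ F₀ ≤ T F.ch o' := by
  by_cases hall : ∀ a ∈ F₀, eta a ∈ W1
  · obtain ⟨o', ho'⟩ := Cfsg.Agent.R2.H4.Mon.GeoInst.exists_octad
    exact ⟨o', ho', S.le_T F ho' fun a ha c _ => pairL_W1 F S ha (hall a ha) c⟩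
  push Not at hall
  obtain ⟨a, ha, ha1⟩ := hall
  obtain ⟨T', hT⟩ := S.exists_sx F ha ha1
  let 𝓕 : Set (golayCode → ZMod 2) := {ψ | ∃ c ∈ F₀, eta c ∉ W1 ∧ eta (a * c) ∉ W1 ∧ ψ = pairL (eta c)}
  have hgood : ∀ ψ ∈ 𝓕, Good (pairL (eta a)) ψ := by
    rintro ψ ⟨c, hc, hc1, hac, rfl⟩
    exact good F S ha ha1 hc hc1 hac
  have hPa : ∀ {i j : Fin 6}, Po (fib T' i ∪ fib T' j) (pairL (eta a)) := by
    intro i j c hc
    rw [hT.ev i c]
    exact po_of_subset Finset.subset_union_left c hc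
  have hagree : ∀ ψ (h : ψ ∈ 𝓕) ψ' (h' : ψ' ∈ 𝓕), ∃ i, mt hT (hgood ψ h) i = mt hT (hgood ψ' h') i := by
    intro ψ h ψ' h'
    obtain ⟨c, hc, hc1, hac, e⟩ := id h
    obtain ⟨c', hc', hc1', hac', e'⟩ := id h'
    by_cases k1 : eta (c * c') ∈ W1
    · refine ⟨0, mt_eq hT _ (Ne.symm (mt_ne _ _ _)) ?_⟩
      have h1 : ψ = ψ' := by
        rw [e, e']
        funext d
        have h2 := pairL_W1 F S (F₀.mul_mem hc hc') k1 d
        rw [S.pairL_mul F hc hc'] at h2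
        exact CharTwo.add_eq_zero.1 h2
      subst h1
      exact po_mt hT (hgood ψ h') 0
    by_cases k2 : eta (a * (c * c')) ∈ W1
    · refine ⟨0, mt_eq hT _ (Ne.symm (mt_ne _ _ _)) ?_⟩
      have h1 := po_mt hT (hgood ψ' h') 0
      intro d hd
      have h2 := pairL_W1 F S (F₀.mul_mem ha (F₀.mul_mem hc hc')) k2 d
      rw [S.pairL_mul F ha (F₀.mul_mem hc hc'), S.pairL_mul F hc hc', ← e, ← e', hPa d hd, h1 d hd, zero_add,
        add_zero] at h2
      exact h2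
    · have hG'' : Good (pairL (eta a)) (fun d => ψ d + ψ' d) := by
        have h1 := good F S ha ha1 (F₀.mul_mem hc hc') k1 k2
        have h2 : pairL (eta (c * c')) = fun d => ψ d + ψ' d := by
          funext d
          rw [S.pairL_mul F hc hc', e, e']
        rwa [h2] at h1
      refine exists_agree hT (hgood ψ h) (hgood ψ' h') ?_ ?_ hG''
      · rw [e, e']
        exact S.rel F hc hc1 hc'
      · rw [e, e']
        exact S.ne_pairL F hc hc' k1
  obtain ⟨i, j, hij, hPo⟩ := exists_common hT 𝓕 hgood hagree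
  refine ⟨tww hT i j, wt_tww hT hij, S.le_T F (wt_tww hT hij) fun b hb => ?_⟩
  rw [sup_tww hT hij]
  by_cases hb1 : eta b ∈ W1
  · exact fun c _ => pairL_W1 F S hb hb1 c
  by_cases hab : eta (a * b) ∈ W1
  · intro c hc
    have h2 := pairL_W1 F S (F₀.mul_mem ha hb) hab c
    rw [S.pairL_mul F ha hb, hPa c hc, zero_add] at h2
    exact h2
  · exact hPo _ ⟨b, hb, hb1, hab, rfl⟩

/-- **A singular subgroup containing the frame lies in an ark.** -/
theorem exists_ark [Finite G] (ho : wt o = 8) (F : Fr Q z eta pi y τ) (S : SF Q z y F₀) :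
    ∃ O ∈ (geo F.ch o).Ark, F₀ ≤ O := by
  obtain ⟨o', ho', h⟩ := exists_octad_le F S
  exact ⟨T F.ch o', ark_T F.ch ho ho', h⟩

end Cfsg.Agent.R2.H8.Mon.Ex
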