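import Cfsg.Agent.R2.H8.Mon.Cw
import Cfsg.Agent.H848.Trio
import Cfsg.Agent.GolayTrio.Trans

/-!
# Sextets refining an octad (helper8)

`refine` : a functional of a 4-set `X` vanishing on the words disjoint from the octad `o` : `X` is contained in `o` or
disjoint from `o`.
-/

set_option autoImplicit false
set_option linter.unusedSectionVars false

namespace Cfsg.Agent.R2.H8.Mon.Refine

open Cfsg
open Cfsg.Agent.GolayTrio.Std
open Cfsg.Agent.H848.Trio
open Cfsg.Agent.SporadicA.Co0Mono (wordPerm wordPerm_apply)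
open Cfsg.Agent.SporadicA.Xi (IsSextet fib mem_fib tw tw_add_mem)
open Cfsg.Agent.SporadicA.Co1Simple (allOne)
open Cfsg.Agent.CoOneType.SignFacts
open Cfsg.Agent.CoOneType.CoOneE (sup_zero wt_eq_zero sup_add wt_add sup_inj sup_wordPerm sup_mem_octads)
open Cfsg.Agent.R2.H8.Mon.Cw
open scoped Pointwise Matrix

/-- the functional vanishes on the words disjoint from the set -/
def Po (O : Finset GolayPt) (φ : golayCode → ZMod 2) : Prop := ∀ c : golayCode, Disjoint (sup c) O → φ c = 0

theorem po_of_subset {O X : Finset GolayPt} (h : X ⊆ O) : Po O (ev X) := by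
  intro c hc
  rw [ev_eq_zero_iff]
  have h1 : sup c ∩ X = ∅ := by
    rw [← Finset.disjoint_iff_inter_eq_empty]
    exact Finset.disjoint_of_subset_right h hc
  rw [h1]; simp

/-- the word `tet 1 a e + tet 2 a e'` -/
def tt (a : V) (e e' : ZMod 2) : golayCode := ⟨tet 1 a e + tet 2 a e', tet_add_mem 1 2 a e e'⟩

theorem tt_apply (a : V) (e e' : ZMod 2) (p : GolayPt) : (tt a e e' : GolayPt → ZMod 2) p =
    (if kk p = 1 then a ⬝ᵥ vv p + e else 0) + (if kk p = 2 then a ⬝ᵥ vv p + e' else 0) := rfl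

theorem tt_disjoint (a : V) (e e' : ZMod 2) : Disjoint (sup (tt a e e')) (OO 0) := by
  rw [Finset.disjoint_left]
  intro p hp hp'
  rw [mem_OO] at hp'
  rw [mem_sup, tt_apply, hp'] at hp
  simp at hp

/-- the sum of the positions of two distinct points of an octad -/
theorem vv_add_ne {p q : GolayPt} (hk : kk p = kk q) (hne : p ≠ q) : ∃ a : V, a ⬝ᵥ vv p + a ⬝ᵥ vv q = 1 := by
  by_contra hn
  push Not at hn
  apply hne
  apply ext_kv hk
  apply V_ext
  intro a
  have h1 := hn a
  generalize a ⬝ᵥ vv p = x at h1 ⊢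
  generalize a ⬝ᵥ vv q = y at h1 ⊢
  revert x y; decide

/-- the standard octad -/
theorem refine_std {X : Finset GolayPt} (hX : X.card = 4) (h : Po (OO 0) (ev X)) : X ⊆ OO 0 ∨ Disjoint X (OO 0) := by
  classical
  -- the parts of `X`
  have hsplit : (X ∩ OO 0).card + (X ∩ OO 1).card + (X ∩ OO 2).card = 4 := by
    rw [← hX, ← Finset.card_union_of_disjoint, ← Finset.card_union_of_disjoint]
    · congr 1
      ext p
      simp only [Finset.mem_union, Finset.mem_inter, mem_OO]
      have : kk p = 0 ∨ kk p = 1 ∨ kk p = 2 := by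
        generalize kk p = k
        revert k; decide
      tauto
    · rw [← Finset.inter_union_distrib_left]
      refine Disjoint.mono Finset.inter_subset_right Finset.inter_subset_right ?_
      rw [Finset.disjoint_union_left]
      exact ⟨OO_disjoint (by decide), OO_disjoint (by decide)⟩
    · exact Disjoint.mono Finset.inter_subset_right Finset.inter_subset_right (OO_disjoint (by decide))
  -- the evaluations
  have hev : ∀ (a : V) (e e' : ZMod 2), ∑ p ∈ X ∩ OO 1, (a ⬝ᵥ vv p + e) + ∑ p ∈ X ∩ OO 2, (a ⬝ᵥ vv p + e') = 0 := by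
    intro a e e'
    have h1 := h (tt a e e') (tt_disjoint a e e')
    unfold ev at h1
    simp only [tt_apply, Finset.sum_add_distrib] at h1
    have h2 : ∀ (k : Fin 3) (f : GolayPt → ZMod 2), ∑ p ∈ X, (if kk p = k then f p else 0) = ∑ p ∈ X ∩ OO k, f p := by
      intro k f
      rw [← Finset.sum_filter]
      congr 1
      ext p
      rw [Finset.mem_filter, Finset.mem_inter, mem_OO]
    rw [h2, h2] at h1
    exact h1
  have h1 : Even (X ∩ OO 1).card := by
    have h2 := hev 0 1 0
    simp only [zero_dotProduct, zero_add, Finset.sum_const, nsmul_eq_mul, mul_one, mul_zero, add_zero] at h2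
    rwa [ZMod.natCast_eq_zero_iff, ← even_iff_two_dvd] at h2
  have h2 : Even (X ∩ OO 2).card := by
    have h2 := hev 0 0 1
    simp only [zero_dotProduct, zero_add, Finset.sum_const, nsmul_eq_mul, mul_one, mul_zero, zero_add] at h2
    rwa [ZMod.natCast_eq_zero_iff, ← even_iff_two_dvd] at h2
  -- no duad outside
  have key : ∀ k l : Fin 3, (k = 1 ∧ l = 2) ∨ (k = 2 ∧ l = 1) → (X ∩ OO k).card = 2 → (X ∩ OO l).card ≠ 0 := by
    intro k l hkl hk hl
    rw [Finset.card_eq_zero] at hl
    obtain ⟨p, q, hpq, hpqe⟩ := Finset.card_eq_two.1 hk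
    have hp : p ∈ X ∩ OO k := by rw [hpqe]; simp
    have hq : q ∈ X ∩ OO k := by rw [hpqe]; simp
    rw [Finset.mem_inter, mem_OO] at hp hq
    obtain ⟨a, ha⟩ := vv_add_ne (hp.2.trans hq.2.symm) hpq
    have h3 := hev a 0 0
    simp only [add_zero] at h3
    rcases hkl with ⟨rfl, rfl⟩ | ⟨rfl, rfl⟩
    · rw [hl, hpqe, Finset.sum_empty, add_zero, Finset.sum_pair hpq, ha] at h3
      exact one_ne_zero h3
    · rw [hl, hpqe, Finset.sum_empty, zero_add, Finset.sum_pair hpq, ha] at h3
      exact one_ne_zero h3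
  have k1 := key 1 2 (Or.inl ⟨rfl, rfl⟩)
  have k2 := key 2 1 (Or.inr ⟨rfl, rfl⟩)
  rw [Nat.even_iff] at h1 h2
  have hcase : (X ∩ OO 0).card = 4 ∨ (X ∩ OO 0).card = 0 := by omega
  rcases hcase with h3 | h3
  · left
    have h4 : X ∩ OO 0 = X := Finset.eq_of_subset_of_card_le Finset.inter_subset_left (by omega)
    rw [← h4]; exact Finset.inter_subset_right
  · right
    rw [Finset.disjoint_iff_inter_eq_empty]
    exact Finset.card_eq_zero.1 h3

/-- the parities of the image of a set -/
theorem ev_smul (σ : M24) (X : Finset GolayPt) (c : golayCode) : ev (σ • X) (wordPerm σ c) = ev X c := by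
  classical
  rw [ev_eq_card, ev_eq_card, sup_wordPerm, ← Finset.smul_finset_inter, Finset.card_smul_finset]

theorem smul_disjoint {σ : M24} {X Y : Finset GolayPt} : Disjoint (σ • X) (σ • Y) ↔ Disjoint X Y := by
  classical
  rw [Finset.disjoint_iff_inter_eq_empty, Finset.disjoint_iff_inter_eq_empty, ← Finset.smul_finset_inter,
    Finset.smul_finset_eq_empty]

/-- **Sextets refining an octad.** -/
theorem refine {o : golayCode} (ho : wt o = 8) {X : Finset GolayPt} (hX : X.card = 4) (h : Po (sup o) (ev X)) :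
    X ⊆ sup o ∨ Disjoint X (sup o) := by
  classical
  obtain ⟨σ, hσ⟩ := Cfsg.Agent.S0367.result (sup o) (OO 0) ((sup_mem_octads o).2 ho) (OO_octad 0)
  have h1 : Po (OO 0) (ev (σ • X)) := by
    intro c hc
    obtain ⟨d, rfl⟩ : ∃ d, c = wordPerm σ d := ⟨wordPerm σ⁻¹ c, by
      rw [← Cfsg.Agent.SporadicA.Co1Simple.wordPerm_mul, mul_inv_cancel, Cfsg.Agent.SporadicA.Co1Simple.wordPerm_one]⟩
    rw [ev_smul]
    apply h
    rw [sup_wordPerm, ← hσ, smul_disjoint] at hc
    exact hc
  rcases refine_std (by rw [Finset.card_smul_finset]; exact hX) h1 with h2 | h2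
  · left
    rw [← hσ, Finset.smul_finset_subset_smul_finset_iff] at h2
    exact h2
  · right
    rwa [← hσ, smul_disjoint] at h2

end Cfsg.Agent.R2.H8.Mon.Refine
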