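import Cfsg.Agent.R2.H8.Mon.Lat
import Cfsg.Agent.R2.H4.Mon.ArkStd

/-!
# Singular subgroups containing the frame (helper8)

* `pair_conj` : the pairs of collinear points are conjugate;
* `smul_mem_W12` : `b ∈ Q ∩ QQ a`, `eta a = s • f0` implies `s⁻¹ • eta b ∈ W12`;
* `rel` : the functional of `b` vanishes on the words refined by the sextet of `a`;
* `SF F₀` : singular subgroups containing `z, y`.
-/

set_option autoImplicit false
set_option linter.unusedSectionVars false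

open Cfsg

namespace Cfsg.Agent.R2.H8.Mon.Sing

open Cfsg.Agent.H848.TrioU
open Cfsg.Agent.SporadicA
open Cfsg.Agent.SporadicA.Xi (IsSextet fib mem_fib tw tw_add_mem xiCo0 xiFun xiCo0_smul)
open Cfsg.Agent.SporadicA.Co0Mono (signCo0 signCo0_add)
open Cfsg.Agent.SporadicA.Co1Simple (allOne)
open Cfsg.Agent.SporadicStructure.Co0Base (e8 e8_coe)
open Cfsg.Agent.CoOneType.SignFacts
open Cfsg.Agent.CoOneType.CoOneE (pr pr_surjective E mem_E sup_zero wt_eq_zero sup_add wt_add sup_inj sup_wordPerm sup_mem_octads)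
open Cfsg.Agent.MonsterU.Lam2 (L2 IsType cl cl_surjective bf bf_cl_eq_zero bf_comm bf_add_right neg_eq)
open Cfsg.Agent.MonsterU.CoFrame
open Cfsg.Agent.MonsterU.CoFrameAct
open Cfsg.Agent.MonsterU.CoFrameL2
open Cfsg.Agent.MonsterU.AmalGen (pre mem_pre EE pi_mem_F_iff pre_W1 z_mem_pre)
open Cfsg.Agent.MonsterU.AmalInf (AA mem_AA CA mem_CA Einf Eτ mem_EE_iff exists_CA_of_E)
open Cfsg.Agent.MonsterU.Ch
open Cfsg.Agent.H848.Oct (eps eps_mul_eps W16 W8 mem_W16 CO mem_CO perp_W8)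
open Cfsg.Agent.H848.TenB (T mem_T pre_W8_le)
open Cfsg.Agent.R2.H4.Mon.KeyGrp
open Cfsg.Agent.R2.H4.Mon.Frm
open Cfsg.Agent.R2.H4.Mon.GeoInst
open Cfsg.Agent.R2.H4.Mon.GeoConj
open Cfsg.Agent.R2.H4.Mon.ArkStd
open Cfsg.Agent.R2.M7
open Cfsg.Agent.R2.M7.Geo (cj CC)
open Cfsg.Agent.R2.H8.Mon.Cw
open Cfsg.Agent.R2.H8.Mon.Refine
open Cfsg.Agent.R2.H8.Mon.Lat
open Cfsg.Spor (Co1)
open scoped Pointwise

/-! ### The sextet map -/

variable {T : GolayPt → Fin 6}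

/-- the functional of the image of the frame class under the sextet map -/
theorem pairL_xi (hT : IsSextet T) : pr (xiCo0 T hT) • f0 ∈ W12 ∧ ∀ c, pairL (pr (xiCo0 T hT) • f0) c = ev (fib T 0) c := by
  classical
  obtain ⟨p, hp⟩ : (fib T 0).Nonempty := by rw [← Finset.card_pos, hT.card]; norm_num
  have h1 : f0 = cl (e8 p) := (cong_iff_cl _ _).1 (cong_e8 none p)
  have hw : ∀ i, ((xiCo0 T hT • e8 p : leechLattice) : GolayPt → ℤ) i =
      4 * (if i ∈ fib T 0 then (if i = p then 1 else -1) else 0) := by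
    intro i
    rw [xiCo0_smul, e8_coe, Xi.xiFun_apply]
    have hs : ∑ k ∈ Xi.fib T (T i), (Pi.single p 8 : GolayPt → ℤ) k = if T p = T i then 8 else 0 := by
      rw [Cfsg.Agent.CoOneType.CentOctad.sum_single]
      by_cases h : T p = T i
      · rw [if_pos h, if_pos (Xi.mem_fib.2 h)]
      · rw [if_neg h, if_neg (fun h' => h (Xi.mem_fib.1 h'))]
    rw [hs, Pi.single_apply]
    have hTp : T p = 0 := mem_fib.1 hp
    by_cases hi : i ∈ fib T 0
    · have hTi : T i = 0 := mem_fib.1 hi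
      rw [if_pos hTi, hTp, hTi, if_pos rfl, if_pos hi]
      by_cases hij : i = p
      · rw [if_pos hij, if_pos hij]; norm_num
      · rw [if_neg hij, if_neg hij]; norm_num
    · have hTi : T i ≠ 0 := fun h0 => hi (mem_fib.2 h0)
      have hij : i ≠ p := by rintro rfl; exact hi hp
      rw [if_neg hTi, hTp, if_neg (Ne.symm hTi), if_neg hi, if_neg hij]
      norm_num
  rw [h1, pr_smul_cl]
  refine ⟨cl_mem_W12.2 (four_mem_V12 fun i => ⟨_, hw i⟩), fun c => ?_⟩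
  rw [pairL_cl, pair_of_four hw]
  unfold ev
  rw [← Finset.sum_filter_add_sum_filter_not Finset.univ (fun i => i ∈ fib T 0)]
  have h2 : ∑ i ∈ Finset.univ.filter (fun i => ¬ i ∈ fib T 0),
      (((if i ∈ fib T 0 then (if i = p then 1 else -1) else 0 : ℤ)) : ZMod 2) * (c : GolayPt → ZMod 2) i = 0 := by
    refine Finset.sum_eq_zero fun i hi => ?_
    rw [Finset.mem_filter] at hi
    rw [if_neg hi.2]; simp
  rw [h2, add_zero]
  have h3 : Finset.univ.filter (fun i => i ∈ fib T 0) = fib T 0 := by ext i; simp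
  rw [h3]
  refine Finset.sum_congr rfl fun i hi => ?_
  rw [if_pos hi]
  by_cases hij : i = p
  · rw [if_pos hij]; simp
  · rw [if_neg hij]
    have : ((-1 : ℤ) : ZMod 2) = 1 := by decide
    rw [this, one_mul]

/-- the sextet functional is not zero -/
theorem Sx.exists_one {φ : golayCode → ZMod 2} (h : Sx φ T) : ∃ d, φ d = 1 := by
  by_contra hn
  push Not at hn
  have h1 : ∀ c, ev (fib T 0) c = 0 := by
    intro c
    rw [← h.ev 0 c]
    exact (zero_or_one _).resolve_right (hn c)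
  have h2 := card_cases (mem_supports_of_ev h1)
  rw [h.card] at h2
  omega

/-- an element of `Co1` mapping the frame class to a sextet class and commuting with the sign changes of the sextet -/
theorem exists_map {x : L2} (hx : x ∈ W12) (h : Sx (pairL x) T) :
    ∃ s : Co1, s • f0 = x ∧ ∀ i j, s * eps (tww h i j) = eps (tww h i j) * s := by
  obtain ⟨h12, hev⟩ := pairL_xi h.sext
  have hcomm : ∀ i j, pr (xiCo0 T h.sext) * eps (tww h i j) = eps (tww h i j) * pr (xiCo0 T h.sext) := by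
    intro i j
    have h1 := Cfsg.Agent.CoOneType.CentOctad.mem_C0.1
      (Cfsg.Agent.CoOneType.CentOctad.xi_mem (o := tww h i j) h.sext (fun p q hpq => tww_const h i j p q hpq))
    show pr _ * pr _ = pr _ * pr _
    rw [← map_mul, h1, map_mul]
  rcases eq_or_of_pairL hx h12 (fun c => by rw [hev, h.ev 0 c]) with h1 | h1
  · exact ⟨_, h1.symm, hcomm⟩
  · obtain ⟨d, hd⟩ := Sx.exists_one h
    refine ⟨eps d * pr (xiCo0 T h.sext), ?_, fun i j => ?_⟩
    · rw [mul_smul]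
      show pr (signCo0 d) • _ = x
      rw [sign_smul h12, hev, ← h.ev 0 d, hd, if_neg one_ne_zero]
      exact h1.symm
    · rw [mul_assoc, hcomm, ← mul_assoc, ← mul_assoc, ← eps_add, ← eps_add, add_comm]

/-- **The functional of a second element.** -/
theorem rel_L2 {x w : L2} (hx : x ∈ W12) (h : Sx (pairL x) T) (hw' : w ∈ W12)
    (hs : ∀ s : Co1, s • f0 = x → s⁻¹ • w ∈ W12) (i j : Fin 6) : pairL w (tww h i j) = 0 := by
  obtain ⟨s, hsx, hcomm⟩ := exists_map hx h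
  have h1 := hs s hsx
  by_contra hne
  have h2 : eps (tww h i j) • w = w + f0 := by
    show pr (signCo0 _) • w = _
    rw [sign_smul hw', if_neg hne]
  have h3 : s⁻¹ * eps (tww h i j) = eps (tww h i j) * s⁻¹ := by
    rw [inv_mul_eq_iff_eq_mul, ← mul_assoc, hcomm, mul_inv_cancel_right]
  have h4 : eps (tww h i j) • (s⁻¹ • w) = s⁻¹ • w + s⁻¹ • f0 := by
    rw [← mul_smul, ← h3, mul_smul, h2, smul_add]
  have h5 : eps (tww h i j) • (s⁻¹ • w) = s⁻¹ • w + if pairL (s⁻¹ • w) (tww h i j) = 0 then 0 else f0 :=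
    sign_smul h1 _
  rw [h4] at h5
  have h6 := add_left_cancel h5
  split_ifs at h6 with h7
  · have h8 : f0 = 0 := by
      have := congrArg (fun u => s • u) h6
      simp only [smul_inv_smul, smul_zero] at this
      exact this
    exact f0_ne h8
  · have h8 : f0 = x := by
      have := congrArg (fun u => s • u) h6
      simp only [smul_inv_smul] at this
      rw [hsx] at this
      exact this
    obtain ⟨d, hd⟩ := Sx.exists_one h
    rw [← h8, (mem_W1_iff_pairL (W1_le_W12 f0_mem_W1)).1 f0_mem_W1 d] at hd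
    exact zero_ne_one hd

/-! ### The group -/

variable {G : Type*} [Group G] {Q : Subgroup G} {z : G} {eta : G → L2}
  {pi : Subgroup.centralizer ({z} : Set G) →* Co1} {y τ : G} {o : golayCode}

/-- the pairs of collinear points are conjugate -/
theorem pair_conj [Finite G] (F : Fr Q z eta pi y τ) {c x : G} (hc : TwoB z c) (hx : TwoB z x)
    (hxc : x ∈ QQ Q z c) (hne : x ≠ c) : ∃ k, k * z * k⁻¹ = c ∧ k * y * k⁻¹ = x := by
  obtain ⟨o, ho⟩ := Cfsg.Agent.R2.H4.Mon.GeoInst.exists_octad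
  obtain ⟨τ₂, F₂, hE₂⟩ := Fr.exists_TE F
  obtain ⟨eta', pi', τ', F', hS, hE'⟩ := exists_frame_at F₂ hc hx hxc hne
  have hark : Cfsg.Agent.H848.TenB.T F'.ch o ∈ (geo F₂.ch o).Ark := by
    rw [← geo_eq_of_same hS o]
    exact ⟨1, (cj_one _).symm⟩
  obtain ⟨k, h1, h2, -⟩ := std2 (facts ho) F₂ hE₂ hark (Cfsg.Agent.R2.H4.Mon.GeoInst.z_mem_T (facts ho) F' hE') hc
    (Cfsg.Agent.R2.H4.Mon.GeoInst.y_mem_T (facts ho) F' hE') hx hxc hne
  exact ⟨k, h1, h2⟩

/-- `Q ∩ QQ y` and `Q ∩ QQ (z y)` -/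
theorem mem_EE_of (F : Fr Q z eta pi y τ) {x : G} (hx : x ∈ Q) (h : x ∈ QQ Q z y ∨ x ∈ QQ Q z (z * y)) :
    x ∈ EE F.ch := by
  rcases h with h | h
  · rw [mem_EE_iff F.ch F.hyQ F.hy F.τz F.τy]
    rw [F.QQ_y] at h
    exact ⟨hx, h⟩
  · have hzyQ : z * y ∈ Q := Q.mul_mem F.ch.large.z_mem F.hyQ
    have hzy : eta (z * y) = f0 := by
      rw [F.ch.eta_mul z F.ch.large.z_mem y F.hyQ, F.ch.eta_z, zero_add, F.hy]
    have e1 : τ⁻¹ * z * τ⁻¹⁻¹ = z * y := by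
      rw [inv_inv]; exact Cfsg.Agent.MonsterU.AmalInf.τz' F.ch F.hyQ F.hy F.τz F.τy
    have e2 : τ⁻¹ * (z * y) * τ⁻¹⁻¹ = z * (z * y) := by
      rw [inv_inv, Cfsg.Agent.MonsterU.AmalInf.τzy' F.ch F.hyQ F.hy F.τz F.τy, ← mul_assoc, F.ch.large.z_sq, one_mul]
    rw [QQ_eq F.ch.large e1] at h
    exact (mem_EE_iff F.ch hzyQ hzy e1 e2).2 ⟨hx, h⟩

/-- **The elements of `Q ∩ QQ a`.** -/
theorem smul_mem_W12 (F : Fr Q z eta pi y τ) {a b : G} (ha : a ∈ Q) (haP : TwoB z a) (hb : b ∈ Q)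
    (hba : b ∈ QQ Q z a) {s : Co1} (hs : s • f0 = eta a) : s⁻¹ • eta b ∈ W12 := by
  have h := F.ch
  obtain ⟨c, rfl⟩ := h.pi_surj s
  have hcz := Subgroup.mem_centralizer_singleton_iff.1 c.2
  have hcz' : (c : G)⁻¹ * z = z * (c : G)⁻¹ := by
    calc (c : G)⁻¹ * z = (c : G)⁻¹ * (z * c) * (c : G)⁻¹ := by group
      _ = z * (c : G)⁻¹ := by rw [← hcz]; group
  -- the conjugates by `c⁻¹`
  have ha' : (c : G)⁻¹ * a * c ∈ Q := by
    have := h.large.conj_mem (c : G)⁻¹ hcz' a ha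
    rwa [inv_inv] at this
  have hb' : (c : G)⁻¹ * b * c ∈ Q := by
    have := h.large.conj_mem (c : G)⁻¹ hcz' b hb
    rwa [inv_inv] at this
  have heta : ∀ q ∈ Q, eta ((c : G)⁻¹ * q * c) = (pi c)⁻¹ • eta q := by
    intro q hq
    have h1 := h.eta_conj c⁻¹ q hq
    rw [map_inv, Subgroup.coe_inv, inv_inv] at h1
    exact h1
  have h1 : eta ((c : G)⁻¹ * a * c) = eta y := by
    rw [heta a ha, ← hs, inv_smul_smul, F.hy]
  have h2 : (c : G)⁻¹ * b * c ∈ QQ Q z ((c : G)⁻¹ * a * c) := by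
    have := (mem_QQ_conj h.large haP (c : G)⁻¹).2 hba
    rwa [inv_inv] at this
  have h3 : (c : G)⁻¹ * b * c ∈ EE F.ch := by
    apply mem_EE_of F hb'
    rcases (h.eta_eq ha' F.hyQ).1 h1 with h4 | h4
    · left; rw [← h4]; exact h2
    · right
      rw [F.zy_comm, ← h4]; exact h2
  have h5 := h3.2
  rw [heta b hb] at h5
  exact h5

/-- singular subgroups containing `z, y` -/
structure SF (Q : Subgroup G) (z y : G) (F₀ : Subgroup G) : Prop where
  hz : z ∈ F₀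
  hy : y ∈ F₀
  pt : ∀ x ∈ F₀, x ≠ 1 → TwoB z x
  col : ∀ x ∈ F₀, x ≠ 1 → ∀ w ∈ F₀, w ∈ QQ Q z x

section

variable (F : Fr Q z eta pi y τ) {F₀ : Subgroup G} (S : SF Q z y F₀)
include F S

theorem SF.mem_Q {a : G} (ha : a ∈ F₀) : a ∈ Q := by
  have h1 := S.col z S.hz F.ch.large.z_ne a ha
  rwa [F.QQ_z] at h1

theorem SF.mem_EE {a : G} (ha : a ∈ F₀) : a ∈ EE F.ch :=
  mem_EE_of F (S.mem_Q F ha) (Or.inl (S.col y S.hy F.y_ne_one a ha))

theorem SF.mem_W12 {a : G} (ha : a ∈ F₀) : eta a ∈ W12 := (S.mem_EE F ha).2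

theorem SF.ne_of {a : G} (h : eta a ∉ W1) : a ≠ 1 ∧ a ≠ z := by
  constructor
  · rintro rfl
    rw [F.ch.eta_one] at h
    exact h W1.zero_mem
  · rintro rfl
    rw [F.ch.eta_z] at h
    exact h W1.zero_mem

/-- the sextet of an element -/
theorem SF.exists_sx [Finite G] {a : G} (ha : a ∈ F₀) (h1 : eta a ∉ W1) : ∃ T, Sx (pairL (eta a)) T := by
  obtain ⟨hn1, hnz⟩ := S.ne_of F h1
  obtain ⟨X, hX, h⟩ := exists_tetrad (S.mem_W12 F ha) h1 (by
    obtain ⟨g, rfl⟩ := S.pt a ha hn1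
    exact Cfsg.Agent.MonsterU.Fused.not_type_two F.ch (S.mem_Q F ha) hnz)
  obtain ⟨T, hT, -⟩ := Cw.exists_sx hX
  exact ⟨T, hT.sext, fun k c => by rw [h, hT.ev k c]⟩

/-- **The relation.** -/
theorem SF.rel {a b : G} (ha : a ∈ F₀) (h1 : eta a ∉ W1) (hb : b ∈ F₀) : Rel (pairL (eta a)) (pairL (eta b)) := by
  intro T hT i j
  obtain ⟨hn1, hnz⟩ := S.ne_of F h1
  exact rel_L2 (S.mem_W12 F ha) hT (S.mem_W12 F hb)
    (fun s hs => smul_mem_W12 F (S.mem_Q F ha) (S.pt a ha hn1) (S.mem_Q F hb) (S.col a ha hn1 b hb) hs) i j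

theorem SF.eta_mul {a b : G} (ha : a ∈ F₀) (hb : b ∈ F₀) : eta (a * b) = eta a + eta b :=
  F.ch.eta_mul a (S.mem_Q F ha) b (S.mem_Q F hb)

theorem SF.pairL_mul {a b : G} (ha : a ∈ F₀) (hb : b ∈ F₀) (c : golayCode) :
    pairL (eta (a * b)) c = pairL (eta a) c + pairL (eta b) c := by
  rw [S.eta_mul F ha hb, pairL_add]

/-- distinct functionals -/
theorem SF.ne_pairL {a b : G} (ha : a ∈ F₀) (hb : b ∈ F₀) (h : eta (a * b) ∉ W1) :
    ∃ c, pairL (eta a) c ≠ pairL (eta b) c := by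
  by_contra hn
  push Not at hn
  apply h
  rw [mem_W1_iff_pairL (S.mem_W12 F (F₀.mul_mem ha hb))]
  intro c
  rw [S.pairL_mul F ha hb, hn c]
  exact CharTwo.add_self_eq_zero _

/-- containment in an ark -/
theorem SF.le_T (ho : wt o = 8) (h : ∀ a ∈ F₀, Po (sup o) (pairL (eta a))) : F₀ ≤ Cfsg.Agent.H848.TenB.T F.ch o := by
  intro a ha
  exact (Cfsg.Agent.H848.TenB.mem_T_Q F.ch (S.mem_Q F ha)).2 ((mem_W8_iff ho (S.mem_W12 F ha)).2 (h a ha))

theorem SF.po_of_le (ho : wt o = 8) (h : F₀ ≤ Cfsg.Agent.H848.TenB.T F.ch o) {a : G} (ha : a ∈ F₀) :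
    Po (sup o) (pairL (eta a)) :=
  (mem_W8_iff ho (S.mem_W12 F ha)).1 ((Cfsg.Agent.H848.TenB.mem_T_Q F.ch (S.mem_Q F ha)).1 (h ha))

/-- **Two arks.** -/
theorem SF.disjoint [Finite G] {a b : G} (ha : a ∈ F₀) (hb : b ∈ F₀) (h1 : eta a ∉ W1) (h2 : eta b ∉ W1)
    (h3 : eta (a * b) ∉ W1) {o₁ o₂ : golayCode} (ho₁ : wt o₁ = 8) (ho₂ : wt o₂ = 8) (hne : o₁ ≠ o₂)
    (hl₁ : F₀ ≤ Cfsg.Agent.H848.TenB.T F.ch o₁) (hl₂ : F₀ ≤ Cfsg.Agent.H848.TenB.T F.ch o₂) :
    Disjoint (sup o₁) (sup o₂) := by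
  obtain ⟨T, hT⟩ := S.exists_sx F ha h1
  obtain ⟨T', hT'⟩ := S.exists_sx F hb h2
  rw [Finset.disjoint_left]
  intro p hp₁ hp₂
  have hcard : (sup o₁ ∩ sup o₂).card ≤ 4 := by
    have k1 := wt_add o₁ o₂
    have k2 : wt (o₁ + o₂) ≠ 0 := by
      intro k
      exact hne (Cfsg.Agent.R2.H4.Mon.Golay.add_eq_zero_iff.1 (wt_eq_zero _ k))
    have k3 := wt_cases (o₁ + o₂)
    omega
  have key : ∀ {c : G} (hc : c ∈ F₀) {T : GolayPt → Fin 6} (hT : Sx (pairL (eta c)) T),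
      fib T (T p) = sup o₁ ∩ sup o₂ := by
    intro c hc T hT
    have hsub : ∀ {o : golayCode}, wt o = 8 → F₀ ≤ Cfsg.Agent.H848.TenB.T F.ch o → p ∈ sup o → fib T (T p) ⊆ sup o := by
      intro o ho hl hp
      have k1 := S.po_of_le F ho hl hc
      have k2 : Po (sup o) (ev (fib T (T p))) := fun d hd => by rw [← hT.ev (T p) d]; exact k1 d hd
      rcases refine ho (hT.card _) k2 with k3 | k3
      · exact k3
      · exact absurd hp (Finset.disjoint_left.1 k3 (mem_fib.2 rfl))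
    refine Finset.eq_of_subset_of_card_le (Finset.subset_inter (hsub ho₁ hl₁ hp₁) (hsub ho₂ hl₂ hp₂)) ?_
    rw [hT.card]; exact hcard
  obtain ⟨c, hc⟩ := S.ne_pairL F ha hb h3
  apply hc
  rw [hT.ev (T p) c, hT'.ev (T' p) c, key ha hT, key hb hT']

end

end Cfsg.Agent.R2.H8.Mon.Sing
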